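import Mathlib
import Groth.Agent.Lib.Helper4.EffCartier

set_option linter.style.haveILetI false
set_option linter.unusedVariables false
set_option linter.unusedSectionVars false
set_option autoImplicit false
set_option backward.isDefEq.respectTransparency.types false
set_option synthInstance.maxHeartbeats 400000
set_option maxHeartbeats 1600000
universe u

/-! helper7: finite type ideal sheaves: inverse images, finite products, supports -/
open CategoryTheory CategoryTheory.Limits AlgebraicGeometry TopologicalSpace Opposite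

namespace Groth.Agent.Helper7.BlowAdm

open Scheme.IdealSheafData Groth.Agent.Helper4

/-- finite generation of an ideal can be checked after mapping to (any model of) the
localizations at a spanning set -/
theorem fg_of_away_span {A : Type u} [CommRing A] (I : Ideal A) (t : Set A)
    (ht : Ideal.span t = ⊤)
    (H : ∀ g : t, ∃ (B : Type u) (_ : CommRing B) (_ : Algebra A B)
      (_ : IsLocalization.Away g.1 B), (I.map (algebraMap A B)).FG) : I.FG := by
  apply Ideal.fg_of_localizationSpan t ht
  intro g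
  obtain ⟨B, _, _, hloc, hfg⟩ := H g
  let e : B ≃ₐ[A] Localization.Away g.1 :=
    IsLocalization.algEquiv (Submonoid.powers g.1) B (Localization.Away g.1)
  have h1 : I.map (algebraMap A (Localization.Away g.1)) =
      (I.map (algebraMap A B)).map (e : B →+* Localization.Away g.1) := by
    rw [Ideal.map_map]
    congr 1
    ext a
    simp [e]
  rw [h1]
  exact hfg.map _

/-- the inverse image of an ideal sheaf of finite type is of finite type -/
theorem isFiniteTypeIdeal_comap {X Y : Scheme.{u}} (f : Y ⟶ X) (𝓚 : X.IdealSheafData)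
    (h𝓚 : BlowUp.IsFiniteTypeIdeal 𝓚) : BlowUp.IsFiniteTypeIdeal (𝓚.comap f) := by
  intro W
  let t : Set Γ(Y, W.1) := {r | ∃ V : X.affineOpens, Y.basicOpen r ≤ f ⁻¹ᵁ V.1}
  have ht : Ideal.span t = ⊤ := by
    rw [← W.2.self_le_iSup_basicOpen_iff]
    intro y hy
    obtain ⟨V, hV, hyV, -⟩ := Opens.isBasis_iff_nbhd.mp X.isBasis_affineOpens
      (show f y ∈ (⊤ : X.Opens) from trivial)
    obtain ⟨r, hr, hyr⟩ := W.2.exists_basicOpen_le (V := f ⁻¹ᵁ V) ⟨y, hyV⟩ hy
    exact Opens.mem_iSup.mpr ⟨⟨r, ⟨⟨V, hV⟩, hr⟩⟩, hyr⟩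
  apply fg_of_away_span _ t ht
  rintro ⟨r, V, hrV⟩
  refine ⟨Γ(Y, Y.basicOpen r), inferInstance, inferInstance, W.2.isLocalization_basicOpen r, ?_⟩
  have h1 : ((𝓚.comap f).ideal W).map (algebraMap Γ(Y, W.1) Γ(Y, Y.basicOpen r)) =
      (𝓚.comap f).ideal (Y.affineBasicOpen r) := (𝓚.comap f).map_ideal_basicOpen W r
  rw [h1, IdealComap.ideal_comap_eq_map f 𝓚 (Y.affineBasicOpen r) V hrV]
  exact (h𝓚 V).map _

theorem isFiniteTypeIdeal_prod {X : Scheme.{u}} {ι : Type*} (s : Finset ι)
    (𝓘 : ι → X.IdealSheafData) (h : ∀ i ∈ s, BlowUp.IsFiniteTypeIdeal (𝓘 i)) :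
    BlowUp.IsFiniteTypeIdeal (∏ i ∈ s, 𝓘 i) := by
  classical
  induction s using Finset.induction_on with
  | empty =>
    intro U
    rw [Finset.prod_empty]
    change (⊤ : Ideal Γ(X, U.1)).FG
    exact ⟨{1}, by simp⟩
  | insert a s ha ih =>
    intro U
    rw [Finset.prod_insert ha, ideal_mul, Pi.mul_apply]
    exact Ideal.FG.mul (h a (Finset.mem_insert_self a s) U)
      (ih (fun i hi => h i (Finset.mem_insert_of_mem hi)) U)

theorem support_prod_disjoint {X : Scheme.{u}} {ι : Type*} (s : Finset ι)
    (𝓘 : ι → X.IdealSheafData) (U : Set X)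
    (h : ∀ i ∈ s, Disjoint ((𝓘 i).support : Set X) U) :
    Disjoint ((∏ i ∈ s, 𝓘 i).support : Set X) U := by
  classical
  induction s using Finset.induction_on with
  | empty =>
    rw [Finset.prod_empty]
    change Disjoint ((⊤ : X.IdealSheafData).support : Set X) U
    rw [support_top]
    simp
  | insert a s ha ih =>
    rw [Finset.prod_insert ha, support_mul, Closeds.coe_sup, Set.disjoint_union_left]
    exact ⟨h a (Finset.mem_insert_self a s), ih (fun i hi => h i (Finset.mem_insert_of_mem hi))⟩

end Groth.Agent.Helper7.BlowAdm
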