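import Mathlib
import Groth.Agent.Lib.Helper7.BlowAdm.FinType
import Groth.Agent.Lib.Helper7.BlowProd.Main
import Groth.Agent.S1683

set_option linter.style.haveILetI false
set_option linter.unusedVariables false
set_option linter.unusedSectionVars false
set_option autoImplicit false
set_option backward.isDefEq.respectTransparency.types false
set_option synthInstance.maxHeartbeats 400000
set_option maxHeartbeats 1600000
universe u

/-! helper7: common admissible blow-up dominating finitely many admissible blow-ups (S8858) -/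
open CategoryTheory CategoryTheory.Limits AlgebraicGeometry TopologicalSpace Opposite

namespace Groth.Agent.Helper7.BlowAdm

open Scheme.IdealSheafData Groth.Agent.Helper4 Groth.Agent.Lead.Blow
open Groth.Agent.Helper7.BlowProd

theorem S8858_main (X : Scheme.{u}) (U : X.Opens) {n : ℕ} (Xi : Fin n → Scheme.{u})
    (b : ∀ i, Xi i ⟶ X) (𝓘 : Fin n → X.IdealSheafData)
    (hb : ∀ i, BlowUp.IsBlowUp (b i) (𝓘 i)) (ha : ∀ i, BlowUp.IsAdmissibleFor U (𝓘 i)) :
    ∃ (𝓙 : X.IdealSheafData) (X' : Scheme.{u}) (c : X' ⟶ X), BlowUp.IsBlowUp c 𝓙 ∧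
      BlowUp.IsAdmissibleFor U 𝓙 ∧
      ∀ i, ∃ (g : X' ⟶ Xi i) (𝓚 : (Xi i).IdealSheafData), g ≫ b i = c ∧ BlowUp.IsBlowUp g 𝓚 ∧
        BlowUp.IsAdmissibleFor ((b i) ⁻¹ᵁ U) 𝓚 := by
  classical
  set 𝓙 : X.IdealSheafData := ∏ i, 𝓘 i with h𝓙
  obtain ⟨X', c, hc⟩ := exists_isBlowUp X 𝓙
  refine ⟨𝓙, X', c, hc, ⟨isFiniteTypeIdeal_prod _ _ (fun i _ => (ha i).1),
    support_prod_disjoint _ _ _ (fun i _ => (ha i).2)⟩, fun i => ?_⟩
  set R : X.IdealSheafData := ∏ x ∈ Finset.univ.erase i, 𝓘 x with hR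
  have hmul : 𝓘 i * R = 𝓙 := Finset.mul_prod_erase Finset.univ 𝓘 (Finset.mem_univ i)
  obtain ⟨X'', b', hb'⟩ := exists_isBlowUp (Xi i) (R.comap (b i))
  have h1 : BlowUp.IsBlowUp (b' ≫ b i) 𝓙 :=
    hmul ▸ Groth.Agent.S1683.result (𝓘 i) R (b i) (hb i) b' hb'
  obtain ⟨θ, hθ⟩ := exists_iso_of_isBlowUp 𝓙 c (b' ≫ b i) hc h1
  refine ⟨θ.hom ≫ b', R.comap (b i), by rw [Category.assoc]; exact hθ,
    isBlowUp_iso_comp _ _ _ hb',
    ⟨isFiniteTypeIdeal_comap _ _ (isFiniteTypeIdeal_prod _ _ (fun j _ => (ha j).1)), ?_⟩⟩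
  rw [support_comap]
  have hd := support_prod_disjoint (Finset.univ.erase i) 𝓘 (U : Set X) (fun j _ => (ha j).2)
  rw [Set.disjoint_left] at hd ⊢
  intro y hy hyU
  exact hd hy hyU

end Groth.Agent.Helper7.BlowAdm
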